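import Groth.Agent.IsoNatLib.Points
import Groth.Agent.Stk19.AlgSt.PointsTop

/-!
# `|𝒳| ≅ |𝒴|` for stacks with isomorphic presheaves of isomorphism classes
-/

set_option autoImplicit false
set_option backward.isDefEq.respectTransparency false
set_option backward.isDefEq.respectTransparency.types false

universe u

open CategoryTheory AlgebraicGeometry FibCat Groth.Agent.Stk19

namespace Groth.Agent.IsoNatLib

variable {S : Scheme.{u}} {𝒳 𝒴 : AlgSt.Cat S}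

theorem cls_eq_of_iso {T : Over S} {x y : 𝒳.p.Fiber T} (e : x.1 ≅ y.1) (he : 𝒳.p.IsHomLift (𝟙 T) e.hom) :
    IsoNat.cls x = IsoNat.cls y :=
  Quotient.sound ⟨⟨⟨e.hom, he⟩, ⟨e.inv, vert_inv 𝒳.p e he⟩, Subtype.ext e.hom_inv_id,
    Subtype.ext e.inv_hom_id⟩⟩

/-- two morphisms over `g` with the same target have isomorphic sources -/
theorem cls_eq_of_over (h : IsFibGrpd 𝒳.p) {T' T : Over S} {x₁ x₂ : 𝒳.p.Fiber T'} {x : 𝒳.p.Fiber T}
    (g : T' ⟶ T) (a₁ : x₁.1 ⟶ x.1) (a₂ : x₂.1 ⟶ x.1) (h₁ : 𝒳.p.IsHomLift g a₁) (h₂ : 𝒳.p.IsHomLift g a₂) :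
    IsoNat.cls x₁ = IsoNat.cls x₂ := by
  obtain ⟨χ, ⟨hχ, -⟩, -⟩ := fibGrpd_fac h a₂ a₁ (eqToHom (x₁.2.trans x₂.2.symm)) (by
    have e₁ := IsHomLift.fac' 𝒳.p g a₁
    have e₂ := IsHomLift.fac' 𝒳.p g a₂
    rw [e₁, e₂]
    simp)
  have hv : 𝒳.p.IsHomLift (𝟙 T') χ := vert_change 𝒳.p χ (vert_of_map_eq 𝒳.p hχ) x₁.2
  have := fibGrpd_isIso_vert h (R := T') χ
  exact cls_eq_of_iso (asIso χ) hv

/-- The inverse isomorphism. -/
def symmFIso (φ : IsoNat.FIso 𝒳 𝒴) (h𝒳 : IsFibGrpd 𝒳.p) (h𝒴 : IsFibGrpd 𝒴.p) : IsoNat.FIso 𝒴 𝒳 where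
  toEquiv T := (φ.toEquiv T).symm
  natural {T' T} g y' y b hb := by
    obtain ⟨x, hx⟩ := Quotient.exists_rep ((φ.toEquiv T).symm (IsoNat.cls y))
    obtain ⟨o, a, e, ha⟩ := fibGrpd_lift h𝒳 x.1 (g ≫ eqToHom x.2.symm)
    let x'' : 𝒳.p.Fiber T' := ⟨o, e⟩
    have hl : 𝒳.p.IsHomLift g a := IsHomLift.of_fac' 𝒳.p g a e x.2 (by rw [ha])
    obtain ⟨y₁', y₁, b₁, hb₁, h1, h2⟩ := φ.natural g x'' x a hl
    have hy : IsoNat.cls y₁ = IsoNat.cls y := by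
      rw [← h2, show IsoNat.cls x = _ from hx, Equiv.apply_symm_apply]
    obtain ⟨c⟩ := Quotient.exact hy
    have hc : 𝒴.p.IsHomLift g (b₁ ≫ c.hom.1) := by
      have := c.hom.2
      exact IsHomLift.comp_lift_id_right 𝒴.p g b₁ (T := T) c.hom.1
    have hy' := cls_eq_of_over h𝒴 g (b₁ ≫ c.hom.1) b hc hb
    refine ⟨x'', x, a, hl, ?_, hx.symm⟩
    rw [← hy', ← h1, Equiv.symm_apply_apply]

theorem pointsMap_leftInverse (φ : IsoNat.FIso 𝒳 𝒴) (ψ : IsoNat.FIso 𝒴 𝒳)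
    (h : ∀ T c, ψ.toEquiv T (φ.toEquiv T c) = c) : Function.LeftInverse (pointsMap ψ) (pointsMap φ) := fun p => by
  obtain ⟨p, rfl⟩ := AlgSt.Points.mk_surjective p
  show AlgSt.Points.mk (withObj p (rep ψ (rep φ (fobj p)))) = AlgSt.Points.mk (withObj p (fobj p))
  apply mk_eq_of_cls_eq
  exact (cls_rep ψ _).trans ((congrArg _ (cls_rep φ _)).trans (h _ _))

theorem pointsMap_bijective (φ : IsoNat.FIso 𝒳 𝒴) (h𝒳 : IsFibGrpd 𝒳.p) (h𝒴 : IsFibGrpd 𝒴.p) :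
    Function.Bijective (pointsMap φ) :=
  ⟨(pointsMap_leftInverse φ (symmFIso φ h𝒳 h𝒴) fun _ _ => Equiv.symm_apply_apply _ _).injective,
    pointsMap_surjective φ⟩

/-- A chart of `𝒳` corresponds to a chart of `𝒴` compatibly with the maps to points. -/
theorem exists_chart (φ : IsoNat.FIso 𝒳 𝒴) (h𝒳 : IsFibGrpd 𝒳.p) (h𝒴 : IsFibGrpd 𝒴.p) {U : Over S}
    (x : overCat U ⥤ᵇ 𝒳) : ∃ y : overCat U ⥤ᵇ 𝒴, φ.toEquiv U (IsoNat.objCls x) = IsoNat.objCls y ∧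
      ∀ t, pointsMap φ (AlgSt.Points.ofChart x t) = AlgSt.Points.ofChart y t := by
  let ξ : 𝒳.p.Fiber U := ⟨x.obj (Over.mk (𝟙 U)), x.w_obj _⟩
  obtain ⟨y, i, hi⟩ := exists_classifying h𝒴 (rep φ ξ).1 (rep φ ξ).2
  let η : 𝒴.p.Fiber U := ⟨y.obj (Over.mk (𝟙 U)), y.w_obj _⟩
  have hη : φ.toEquiv U (IsoNat.cls ξ) = IsoNat.cls η :=
    (cls_rep φ ξ).symm.trans (cls_eq_of_iso (y := η) i.symm (vert_inv 𝒴.p i hi))
  refine ⟨y, hη, fun t => ?_⟩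
  let o : Over U := Over.mk (Over.homMk (U.left.fromSpecResidueField t) rfl :
    Over.mk (U.left.fromSpecResidueField t ≫ U.hom) ⟶ U)
  let T' : Over S := Over.mk (U.left.fromSpecResidueField t ≫ U.hom)
  let k : (overCat U).obj := o
  let x₀ : 𝒳.p.Fiber T' := ⟨x.obj k, x.w_obj _⟩
  let y₀ : 𝒴.p.Fiber T' := ⟨y.obj k, y.w_obj _⟩
  let r : k ⟶ (Over.mk (𝟙 U) : (overCat U).obj) := Over.homMk o.hom (Category.comp_id _)
  show AlgSt.Points.mk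
      (withObj { K := ↥(U.left.residueField t), str := U.left.fromSpecResidueField t ≫ U.hom, obj := x.obj k,
                 lies := x.w_obj _ } (rep φ x₀)) =
    AlgSt.Points.mk
      (withObj { K := ↥(U.left.residueField t), str := U.left.fromSpecResidueField t ≫ U.hom, obj := x.obj k,
                 lies := x.w_obj _ } y₀)
  apply mk_eq_of_cls_eq
  refine (cls_rep φ x₀).trans ?_
  have hl : 𝒳.p.IsHomLift o.hom (x.map r) :=
    IsHomLift.of_fac' 𝒳.p o.hom _ (x.w_obj k) (x.w_obj _) (by rw [based_map x r]; rfl)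
  obtain ⟨y₁', y₁, b, hb, h1, h2⟩ := φ.natural o.hom x₀ ξ (x.map r) hl
  obtain ⟨c⟩ := Quotient.exact (h2.symm.trans hη)
  refine h1.trans ?_
  have hc : 𝒴.p.IsHomLift o.hom (b ≫ c.hom.1) := by
    have := c.hom.2
    exact IsHomLift.comp_lift_id_right 𝒴.p o.hom b (T := U) c.hom.1
  have hl' : 𝒴.p.IsHomLift o.hom (y.map r) :=
    IsHomLift.of_fac' 𝒴.p o.hom _ (y.w_obj k) (y.w_obj _) (by rw [based_map y r]; rfl)
  exact cls_eq_of_over h𝒴 (x := η) o.hom (b ≫ c.hom.1) (y.map r) hc hl'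

theorem continuous_pointsMap (φ : IsoNat.FIso 𝒳 𝒴) (h𝒳 : IsFibGrpd 𝒳.p)
    (h𝒴 : AlgSt.IsAlgStack Scheme.fppfPrecoverage 𝒴) : Continuous (pointsMap φ) :=
  continuous_def.2 fun A hA => AlgSt.Points.isOpen_iff.2 fun U x _ => by
    obtain ⟨y, -, hy⟩ := exists_chart φ h𝒳 h𝒴.isStack.1 x
    have e : AlgSt.Points.ofChart x ⁻¹' (pointsMap φ ⁻¹' A) = AlgSt.Points.ofChart y ⁻¹' A := by
      ext t
      simp only [Set.mem_preimage, hy]
    rw [e]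
    exact hA.preimage (continuous_ofChart h𝒴 y)

theorem isHomeomorph_pointsMap (φ : IsoNat.FIso 𝒳 𝒴) (h𝒳 : AlgSt.IsAlgStack Scheme.fppfPrecoverage 𝒳)
    (h𝒴 : AlgSt.IsAlgStack Scheme.fppfPrecoverage 𝒴) : IsHomeomorph (pointsMap φ) := by
  refine ⟨continuous_pointsMap φ h𝒳.isStack.1 h𝒴, ?_, pointsMap_bijective φ h𝒳.isStack.1 h𝒴.isStack.1⟩
  intro A hA
  have hl := pointsMap_leftInverse φ (symmFIso φ h𝒳.isStack.1 h𝒴.isStack.1) fun _ _ => Equiv.symm_apply_apply _ _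
  have e : pointsMap φ '' A = pointsMap (symmFIso φ h𝒳.isStack.1 h𝒴.isStack.1) ⁻¹' A := by
    refine Set.Subset.antisymm ?_ fun q hq => ?_
    · rintro _ ⟨p, hp, rfl⟩
      rw [Set.mem_preimage, hl p]
      exact hp
    · obtain ⟨p, rfl⟩ := pointsMap_surjective φ q
      rw [Set.mem_preimage, hl p] at hq
      exact ⟨p, hq, rfl⟩
  rw [e]
  exact hA.preimage (continuous_pointsMap _ h𝒴.isStack.1 h𝒳)

end Groth.Agent.IsoNatLib
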