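import Groth.Prelude.Def_W4c2isonaturalstkIso
import Groth.Prelude.Def_AlgSt4

/-!
# An isomorphism of presheaves of isomorphism classes acts on points
-/

set_option autoImplicit false

universe u

open CategoryTheory AlgebraicGeometry

namespace Groth.Agent.IsoNatLib

variable {S : Scheme.{u}} {𝒳 𝒴 : AlgSt.Cat S}

/-- the object of the fibre category given by a field-valued point -/
def fobj (p : AlgSt.FPt 𝒳) : 𝒳.p.Fiber (Over.mk p.str) := ⟨p.obj, p.lies⟩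

/-- a field valued point with given base and object -/
abbrev withObj (p : AlgSt.FPt 𝒳) (y : 𝒴.p.Fiber (Over.mk p.str)) : AlgSt.FPt 𝒴 :=
  { K := p.K, str := p.str, obj := y.1, lies := y.2 }

variable (φ : IsoNat.FIso 𝒳 𝒴)

/-- a representative of the image class -/
noncomputable def rep {T : Over S} (x : 𝒳.p.Fiber T) : 𝒴.p.Fiber T :=
  Quotient.out (φ.toEquiv T (IsoNat.cls x))

theorem cls_rep {T : Over S} (x : 𝒳.p.Fiber T) : IsoNat.cls (rep φ x) = φ.toEquiv T (IsoNat.cls x) :=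
  Quotient.out_eq _

theorem nonempty_hom_of_cls_eq {T : Over S} {x y : 𝒳.p.Fiber T} (h : IsoNat.cls x = IsoNat.cls y) :
    Nonempty (x.1 ⟶ y.1) := by
  obtain ⟨e⟩ := Quotient.exact h
  exact ⟨e.hom.1⟩

theorem nonempty_hom_rep {T' T : Over S} (x' : 𝒳.p.Fiber T') (x : 𝒳.p.Fiber T) (a : x'.1 ⟶ x.1) :
    Nonempty ((rep φ x').1 ⟶ (rep φ x).1) := by
  let g : T' ⟶ T := eqToHom x'.2.symm ≫ 𝒳.p.map a ≫ eqToHom x.2
  have : 𝒳.p.IsHomLift g a := IsHomLift.of_fac 𝒳.p g a x'.2 x.2 rfl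
  obtain ⟨y', y, b, -, h1, h2⟩ := φ.natural g x' x a this
  obtain ⟨c⟩ := nonempty_hom_of_cls_eq ((cls_rep φ x').trans h1)
  obtain ⟨d⟩ := nonempty_hom_of_cls_eq (h2.symm.trans (cls_rep φ x).symm)
  exact ⟨c ≫ b ≫ d⟩

/-- transport of points along `φ` -/
noncomputable def pointsMap : AlgSt.Points 𝒳 → AlgSt.Points 𝒴 :=
  Quot.lift (fun p => AlgSt.Points.mk (withObj p (rep φ (fobj p)))) (by
    rintro p q ⟨r, a, b, -⟩
    obtain ⟨a'⟩ := nonempty_hom_rep φ (fobj r) (fobj p) a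
    obtain ⟨b'⟩ := nonempty_hom_rep φ (fobj r) (fobj q) b
    exact AlgSt.Points.sound ⟨withObj r (rep φ (fobj r)), a', b', trivial⟩)

theorem pointsMap_mk (p : AlgSt.FPt 𝒳) :
    pointsMap φ (AlgSt.Points.mk p) = AlgSt.Points.mk (withObj p (rep φ (fobj p))) := rfl

theorem mk_eq_of_cls_eq (p : AlgSt.FPt 𝒳) (y₁ y₂ : 𝒴.p.Fiber (Over.mk p.str))
    (h : IsoNat.cls y₁ = IsoNat.cls y₂) : AlgSt.Points.mk (withObj p y₁) = AlgSt.Points.mk (withObj p y₂) := by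
  obtain ⟨c⟩ := nonempty_hom_of_cls_eq h
  exact AlgSt.Points.sound ⟨withObj p y₁, 𝟙 _, c, trivial⟩

theorem pointsMap_surjective : Function.Surjective (pointsMap φ) := by
  intro q
  obtain ⟨q, rfl⟩ := AlgSt.Points.mk_surjective q
  let x : 𝒳.p.Fiber (Over.mk q.str) := Quotient.out ((φ.toEquiv _).symm (IsoNat.cls (fobj q)))
  refine ⟨AlgSt.Points.mk (withObj q x), ?_⟩
  show AlgSt.Points.mk (withObj q (rep φ x)) = AlgSt.Points.mk (withObj q (fobj q))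
  apply mk_eq_of_cls_eq
  refine (cls_rep φ x).trans ?_
  rw [show IsoNat.cls x = (φ.toEquiv _).symm (IsoNat.cls (fobj q)) from Quotient.out_eq _]
  exact Equiv.apply_symm_apply _ _

theorem pointsMap_comm {𝒳' 𝒴' : AlgSt.Cat S} {f : 𝒳 ⥤ᵇ 𝒴} {f' : 𝒳' ⥤ᵇ 𝒴'} (ψ : IsoNat.FIsoSq f f')
    (p : AlgSt.Points 𝒳) :
    pointsMap ψ.tgt (AlgSt.Points.map f p) = AlgSt.Points.map f' (pointsMap ψ.src p) := by
  obtain ⟨p, rfl⟩ := AlgSt.Points.mk_surjective p
  show AlgSt.Points.mk (withObj p (rep ψ.tgt ((IsoNat.fibFun f _).obj (fobj p)))) =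
    AlgSt.Points.mk (withObj p ((IsoNat.fibFun f' _).obj (rep ψ.src (fobj p))))
  apply mk_eq_of_cls_eq
  refine (cls_rep _ _).trans ?_
  refine (ψ.comm _ (IsoNat.cls (fobj p))).trans ?_
  rw [← cls_rep ψ.src (fobj p)]
  rfl

end Groth.Agent.IsoNatLib
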