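import Groth.Agent.Stk19.AlgSt.FlatCover
import Groth.Agent.Stk19.AlgSt.Qc

/-!
# Quasi-compact morphisms of algebraic stacks and compact open sets of points
-/

set_option autoImplicit false
set_option backward.isDefEq.respectTransparency false
set_option backward.isDefEq.respectTransparency.types false

universe u

open CategoryTheory CategoryTheory.Limits AlgebraicGeometry FibCat Groth.Agent.Stk19

namespace Groth.Agent.IsoNatLib

variable {S : Scheme.{u}} {𝒳 𝒴 : AlgSt.Cat S}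

local notation "AS" => AlgSt.IsAlgStack Scheme.fppfPrecoverage
local notation "QC" => AlgSt.IsQuasiCompactMor Scheme.fppfPrecoverage

/-- A compact open set of points is the image of a chart from a compact scheme. -/
theorem exists_chart_of_compact_open (h : AS 𝒴) {W : Set (AlgSt.Points 𝒴)} (hW : IsOpen W) (hWc : IsCompact W) :
    ∃ (U : Over S) (g : overCat U ⥤ᵇ 𝒴), CompactSpace ↥U.left ∧ Set.range (AlgSt.Points.ofChart g) = W := by
  obtain ⟨V, y, hy, hys⟩ := h.atlas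
  let ι := {i : V.left.affineOpens // (i.1 : Set V.left) ⊆ AlgSt.Points.ofChart y ⁻¹' W}
  obtain ⟨σ, hσ⟩ := hWc.elim_finite_subcover
    (fun i : ι => AlgSt.Points.ofChart y '' (i.1.1 : Set V.left))
    (fun i => isOpenMap_ofChart_smooth h.isStack.1 hy _ i.1.1.2) (fun p hp => by
      obtain ⟨s, rfl⟩ := ofChart_surjective h.isStack.1 hys p
      obtain ⟨_, ⟨O, hO, rfl⟩, hs, hsub⟩ :=
        V.left.isBasis_affineOpens.exists_subset_of_mem_open hp (hW.preimage (continuous_ofChart h y))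
      exact Set.mem_iUnion.2 ⟨⟨⟨O, hO⟩, hsub⟩, s, hs, rfl⟩)
  let U : Over S := Over.mk (Sigma.desc (fun i : σ => i.1.1.1.ι) ≫ V.hom)
  let π : U ⟶ V := Over.homMk (Sigma.desc fun i : σ => i.1.1.1.ι)
  refine ⟨U, BasedFunctor.comp (AlgSt.overMap π) y, ?_, ?_⟩
  · have : ∀ i : σ, IsAffine i.1.1.1.toScheme := fun i => i.1.1.2
    have : IsAffine U.left := (inferInstance : IsAffine (∐ fun i : σ => i.1.1.1.toScheme))
    infer_instance
  · refine Set.Subset.antisymm ?_ fun p hp => ?_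
    · rintro _ ⟨t, rfl⟩
      rw [ofChart_overMap]
      obtain ⟨i, v, rfl⟩ : ∃ (i : σ) (v : ↥i.1.1.1.toScheme), Sigma.ι (fun i : σ => i.1.1.1.toScheme) i v = t := by
        obtain ⟨⟨i, v⟩, rfl⟩ := (sigmaMk (fun i : σ => i.1.1.1.toScheme)).surjective t
        exact ⟨i, v, (sigmaMk_mk (fun i : σ => i.1.1.1.toScheme) i v).symm⟩
      refine i.1.2 ?_
      show ((Sigma.ι (fun i : σ => i.1.1.1.toScheme) i) ≫ Sigma.desc fun i : σ => i.1.1.1.ι) v ∈ i.1.1.1
      rw [Sigma.ι_desc]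
      exact v.2
    · obtain ⟨i, hi, v, hv, rfl⟩ := Set.mem_iUnion₂.1 (hσ hp)
      refine ⟨Sigma.ι (fun i : σ => i.1.1.1.toScheme) ⟨i, hi⟩ ⟨v, hv⟩, ?_⟩
      rw [ofChart_overMap]
      congr 1
      show ((Sigma.ι (fun i : σ => i.1.1.1.toScheme) ⟨i, hi⟩) ≫ Sigma.desc fun i : σ => i.1.1.1.ι) ⟨v, hv⟩ = v
      rw [Sigma.ι_desc]
      rfl

theorem range_map_fpSnd (h𝒳 : AS 𝒳) (h𝒴 : AS 𝒴) {U : Over S} (g : overCat U ⥤ᵇ 𝒴) (f : 𝒳 ⥤ᵇ 𝒴) :
    Set.range (AlgSt.Points.map (fpSnd g f)) =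
      AlgSt.Points.map f ⁻¹' Set.range (AlgSt.Points.ofChart g) := by
  refine Set.Subset.antisymm ?_ fun p hp => ?_
  · rintro _ ⟨w, rfl⟩
    obtain ⟨t, ht⟩ := (ofChart_id_bijective U).2 (AlgSt.Points.map (fpFst g f) w)
    refine ⟨t, ?_⟩
    rw [ofChart_eq_map, ht, ← points_map_comp, ← points_map_comp]
    exact points_map_congr (fpIso g f) w
  · obtain ⟨t, ht⟩ := hp
    obtain ⟨w, -, hw⟩ := exists_points_fp h𝒳.isStack.1 h𝒴.isStack.1 (isFibGrpd_overCat U) f g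
      (AlgSt.Points.ofChart (BasedFunctor.id _) t) p (by rw [← ofChart_eq_map]; exact ht)
    exact ⟨w, hw⟩

theorem isCompact_preimage_of_qcMor (h𝒳 : AS 𝒳) (h𝒴 : AS 𝒴) {f : 𝒳 ⥤ᵇ 𝒴} (hf : QC f)
    {W : Set (AlgSt.Points 𝒴)} (hW : IsOpen W) (hWc : IsCompact W) :
    IsCompact (AlgSt.Points.map f ⁻¹' W) := by
  obtain ⟨U, g, hU, rfl⟩ := exists_chart_of_compact_open h𝒴 hW hWc
  have hfp := isAlgStack_fp h𝒴.isStack h𝒴.diag (isAlgStack_overCat U) h𝒳 g f
  have := compactSpace_points_of_qc hfp (hf _ (isAlgStack_overCat U) (isQuasiCompact_overCat U) g)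
  rw [← range_map_fpSnd h𝒳 h𝒴 g f]
  exact isCompact_range (continuous_points_map h𝒳 _)

theorem qcMor_of_isCompact_preimage [QuasiSeparatedSpace ↥S] (h𝒳 : AS 𝒳) (h𝒴 : AS 𝒴)
    (hd : AlgSt.RepByAlgSpWith AlgSp.IsQuasiCompactMor (FibCat.diag (FibCat.toSelf 𝒴))) (f : 𝒳 ⥤ᵇ 𝒴)
    (hf : ∀ W : Set (AlgSt.Points 𝒴), IsOpen W → IsCompact W → IsCompact (AlgSt.Points.map f ⁻¹' W)) : QC f :=
  qcMor_of_tests h𝒴 h𝒳 f fun V g hV => by
    have hc : IsCompact (Set.range (AlgSt.Points.ofChart g)) := isCompact_range (continuous_ofChart h𝒴 g)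
    choose O hO hOc hmem _ using fun p : AlgSt.Points 𝒴 =>
      exists_compact_nhd h𝒴 isOpen_univ (Set.mem_univ p)
    obtain ⟨σ, hσ⟩ := hc.elim_finite_subcover O hO fun p _ => Set.mem_iUnion.2 ⟨p, hmem p⟩
    have hWo : IsOpen (⋃ p ∈ σ, O p) := isOpen_biUnion fun p _ => hO p
    have hWc : IsCompact (⋃ p ∈ σ, O p) := σ.isCompact_biUnion fun p _ => hOc p
    have hpre := hf _ hWo hWc
    obtain ⟨A, a, hA, hrange⟩ := exists_chart_of_compact_open h𝒳
      (hWo.preimage (continuous_points_map h𝒴 f)) hpre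
    have e : BasedFunctor.comp (BasedFunctor.comp a f) (toSelf 𝒴) = toSelf (overCat A) :=
      based_ext (BasedFunctor.comp a f).w
    have hA' := isQuasiCompact_overCat A
    have hqc : QC (BasedFunctor.comp a f) :=
      qcMor_of_comp (isAlgStack_overCat A) h𝒴 isAlgStack_selfOver _ (toSelf 𝒴)
        (e ▸ qcMor_toSelf (isAlgStack_overCat A) hA') hd
    have hfp := isAlgStack_fp h𝒴.isStack h𝒴.diag (isAlgStack_overCat V) h𝒳 g f
    have hfp2 := isAlgStack_fp h𝒳.isStack h𝒳.diag hfp (isAlgStack_overCat A) (fpSnd g f) a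
    obtain ⟨G, hG, -, -⟩ := exists_inverse (isEquivOver_fpCompFactor g a f)
    have hq : AlgSt.IsQuasiCompact (fp (fpSnd g f) a) :=
      isQuasiCompact_of_equiv hG (hqc _ (isAlgStack_overCat V) (isQuasiCompact_overCat V) g)
    refine isQuasiCompact_of_surjective hfp2 hfp (fpFst (fpSnd g f) a) (fun w => ?_) hq
    have hp : AlgSt.Points.map (fpSnd g f) w ∈ Set.range (AlgSt.Points.ofChart a) := by
      rw [hrange]
      exact hσ ((range_map_fpSnd h𝒳 h𝒴 g f).le ⟨w, rfl⟩)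
    obtain ⟨t, ht⟩ := hp
    obtain ⟨v, hv, -⟩ := exists_points_fp (isFibGrpd_overCat A) h𝒳.isStack.1 hfp.isStack.1 a (fpSnd g f) w
      (AlgSt.Points.ofChart (BasedFunctor.id _) t) (by rw [← ofChart_eq_map]; exact ht.symm)
    exact ⟨v, hv⟩

end Groth.Agent.IsoNatLib
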